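import Mathlib
import Cfsg.Prelude.Def_KGroupFacts
import Cfsg.Agent.Helper19.Schur.Stem

/-! Noncyclic version of helper19's upper half for Schur multipliers (labelled Todd–Coxeter
certificates): `stem_core` isolates the part of the argument that does not depend on the lattice
data; `exists_surjective_of_stem2` is the two-generator conclusion. -/

set_option autoImplicit false
set_option linter.all false

namespace Cfsg.Agent.Helper23.Schur2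

open Cfsg.Agent.Helper19.TCS Cfsg.Agent.Helper19.TCL Cfsg.Agent.Helper19.Schur
open scoped commutatorElement

universe u

/-- The lattice-independent core of the upper half: in every finite stem extension the kernel
consists of values `Psi w` with `w` in the kernel of the two exponent-sum functionals. -/
theorem stem_core {G : Type u} [Group G] [Finite G] (x y : G)
    (hxy : Subgroup.closure {x, y} = (⊤ : Subgroup G))
    (rels : List (List ℕ)) (kk : ℕ) (hkk : rels.length + 1 ≤ kk)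
    (hrel : ∀ w ∈ rels, prodw (gc2 x y) w = 1)
    (hT1 : ∀ (Δ : Type u) [Group Δ] (a b : Δ), Subgroup.closure {a, b} = (⊤ : Subgroup Δ) →
      (∀ w ∈ rels, prodw (gc2 a b) w = 1) → Finite Δ ∧ Nat.card Δ ≤ Nat.card G)
    (s : ℕ) (lam : Fin s → Fin kk → ℤ)
    (hT2 : ∀ (Δ : Type u) [Group Δ] (a b : Δ)
      (hcen : ∀ ρ g, Commute (prodw (gc2 a b) (rels.getD ρ [])) g) (j : Fin s),
      Psi (gfam a b rels kk) (gfam_comm a b rels kk hcen) (lam j) = 1)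
    (e1 e2 : Fin kk → ℤ)
    (he1 : ∀ c : Fin kk, e1 c = if (c : ℕ) = 0 then 0 else es0 (rels.getD ((c : ℕ) - 1) []))
    (he2 : ∀ c : Fin kk, e2 c = if (c : ℕ) = 0 then 0 else es1 (rels.getD ((c : ℕ) - 1) []))
    (c1 c2 : Fin kk → ℤ)
    (hc1 : (∀ c : Fin kk, (c : ℕ) = 0 → c1 c = 0) ∧ Efun e1 c1 = 1 ∧ Efun e2 c1 = 0)
    (hc2 : (∀ c : Fin kk, (c : ℕ) = 0 → c2 c = 0) ∧ Efun e1 c2 = 0 ∧ Efun e2 c2 = 1) :
    ∀ (Γ : Type u) [Group Γ] [Finite Γ] (σ : Γ →* G), Cfsg.IsStemExtension σ →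
      ∃ (g : Fin kk → Γ) (hg : ∀ i j, Commute (g i) (g j)),
        (∀ j, Psi g hg (lam j) = 1) ∧
        (∀ v : Fin kk → ℤ, (∀ c : Fin kk, (c : ℕ) = 0 → v c = 0) → Psi g hg v ∈ σ.ker) ∧
        (∀ γ ∈ σ.ker, ∃ w : Fin kk → ℤ, (∀ c : Fin kk, (c : ℕ) = 0 → w c = 0) ∧
          Efun e1 w = 0 ∧ Efun e2 w = 0 ∧ Psi g hg w = γ) := by
  intro Γ _ _ σ hσ
  obtain ⟨hsurj, hcenter, hcommu⟩ := hσ
  obtain ⟨a0, ha0⟩ := hsurj x
  obtain ⟨b0, hb0⟩ := hsurj y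
  have hker0 : ∀ ρ, prodw (gc2 a0 b0) (rels.getD ρ []) ∈ σ.ker := by
    apply forall_getD_of_forall_mem (fun w => prodw (gc2 a0 b0) w ∈ σ.ker)
    · intro w hw
      rw [MonoidHom.mem_ker, map_prodw, ha0, hb0]
      exact hrel w hw
    · exact σ.ker.one_mem
  have hcenK : ∀ k ∈ σ.ker, ∀ g, Commute k g := fun k hk g =>
    ((Subgroup.mem_center_iff.mp (hcenter hk)) g).symm
  have hcen0 : ∀ ρ g, Commute (prodw (gc2 a0 b0) (rels.getD ρ [])) g := fun ρ g =>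
    hcenK _ (hker0 ρ) g
  have hgc := gfam_comm a0 b0 rels kk hcen0
  set Ψ : (Fin kk → ℤ) → Γ := Psi (gfam a0 b0 rels kk) hgc with hΨ
  have hΨker : ∀ v : Fin kk → ℤ, (∀ c : Fin kk, (c : ℕ) = 0 → v c = 0) → Ψ v ∈ σ.ker := by
    intro v hv
    apply Psi_mem
    intro c hc
    have hc0 : (c : ℕ) ≠ 0 := fun h => hc (hv c h)
    unfold gfam
    rw [if_neg hc0]
    exact hker0 _
  have hΨrel : ∀ j, Ψ (lam j) = 1 := fun j => hT2 Γ a0 b0 hcen0 j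
  set u : Γ := (Ψ c1)⁻¹ with hu
  set v : Γ := (Ψ c2)⁻¹ with hv
  have huK : u ∈ σ.ker := σ.ker.inv_mem (hΨker c1 hc1.1)
  have hvK : v ∈ σ.ker := σ.ker.inv_mem (hΨker c2 hc2.1)
  have hσa : σ (a0 * u) = x := by rw [map_mul, MonoidHom.mem_ker.mp huK, mul_one, ha0]
  have hσb : σ (b0 * v) = y := by rw [map_mul, MonoidHom.mem_ker.mp hvK, mul_one, hb0]
  have hgen : Subgroup.closure {a0 * u, b0 * v} = (⊤ : Subgroup Γ) := by
    apply closure_eq_top_of_stem σ hcenter hcommu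
    rw [hσa, hσb, hxy]
  let K1 : Subgroup Γ :=
    { carrier := {γ | ∃ w : Fin kk → ℤ, (∀ c : Fin kk, (c : ℕ) = 0 → w c = 0) ∧ Efun e1 w = 0 ∧
        Efun e2 w = 0 ∧ Ψ w = γ}
      mul_mem' := by
        rintro _ _ ⟨w1, h1, h2, h3, rfl⟩ ⟨w2, k1, k2, k3, rfl⟩
        refine ⟨w1 + w2, ?_, ?_, ?_, Psi_add _ _ _ _⟩
        · intro c hc
          rw [Pi.add_apply, h1 c hc, k1 c hc, add_zero]
        · rw [Efun_add, h2, k2, add_zero]
        · rw [Efun_add, h3, k3, add_zero]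
      one_mem' := ⟨0, fun c _ => rfl, Efun_zero _, Efun_zero _, Psi_zero _ _⟩
      inv_mem' := by
        rintro _ ⟨w1, h1, h2, h3, rfl⟩
        refine ⟨-w1, ?_, ?_, ?_, Psi_neg _ _ _⟩
        · intro c hc
          rw [Pi.neg_apply, h1 c hc, neg_zero]
        · rw [Efun_neg, h2, neg_zero]
        · rw [Efun_neg, h3, neg_zero] }
  have hK1ker : K1 ≤ σ.ker := by
    rintro _ ⟨w, h1, -, -, rfl⟩
    exact hΨker w h1
  haveI hK1n : K1.Normal := normal_of_le_center' K1 (hK1ker.trans hcenter)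
  have hrelK1 : ∀ w ∈ rels, prodw (gc2 (a0 * u) (b0 * v)) w ∈ K1 := by
    intro w hw
    obtain ⟨ρ, hρ, rfl⟩ := List.getElem_of_mem hw
    rw [prodw_central_mul a0 b0 u v (hcenK u huK) (hcenK v hvK)]
    have hρk : ρ + 1 < kk := by omega
    set c : Fin kk := ⟨ρ + 1, hρk⟩ with hc
    have hcne : ((c : Fin kk) : ℕ) ≠ 0 := by simp [hc]
    have hgetD : rels.getD ((c : ℕ) - 1) [] = rels[ρ] := by
      have : ((c : Fin kk) : ℕ) - 1 = ρ := by simp [hc]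
      rw [this, List.getD_eq_getElem _ _ hρ]
    have hval : prodw (gc2 a0 b0) rels[ρ] = Ψ (Pi.single c 1) := by
      rw [hΨ, Psi_single]
      unfold gfam
      rw [if_neg hcne, hgetD]
    refine ⟨Pi.single c 1 - es0 rels[ρ] • c1 - es1 rels[ρ] • c2, ?_, ?_, ?_, ?_⟩
    · intro c' hc'
      have hne : c' ≠ c := by
        intro h
        rw [h] at hc'
        exact hcne hc'
      simp only [Pi.sub_apply, Pi.smul_apply, smul_eq_mul]
      rw [Pi.single_eq_of_ne hne, hc1.1 c' hc', hc2.1 c' hc']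
      ring
    · rw [Efun_sub, Efun_sub, Efun_smul, Efun_smul, Efun_single, hc1.2.1, hc2.2.1, he1 c,
        if_neg hcne, hgetD]
      ring
    · rw [Efun_sub, Efun_sub, Efun_smul, Efun_smul, Efun_single, hc1.2.2, hc2.2.2, he2 c,
        if_neg hcne, hgetD]
      ring
    · rw [hΨ, Psi_sub, Psi_sub, Psi_smul, Psi_smul, ← hΨ, ← hval, hu, hv, inv_zpow, inv_zpow,
        mul_assoc]
  have hquot : Finite (Γ ⧸ K1) ∧ Nat.card (Γ ⧸ K1) ≤ Nat.card G := by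
    apply hT1 (Γ ⧸ K1) (QuotientGroup.mk' K1 (a0 * u)) (QuotientGroup.mk' K1 (b0 * v))
    · have h1 : (Subgroup.closure ({a0 * u, b0 * v} : Set Γ)).map (QuotientGroup.mk' K1) = ⊤ := by
        rw [hgen]
        exact Subgroup.map_top_of_surjective _ (QuotientGroup.mk'_surjective K1)
      rw [MonoidHom.map_closure, Set.image_pair] at h1
      exact h1
    · intro w hw
      rw [← map_prodw]
      exact (QuotientGroup.eq_one_iff _).mpr (hrelK1 w hw)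
  have hkerK1 : σ.ker ≤ K1 := ker_le_of_card_quotient_le σ hsurj K1 hK1ker hquot.1 hquot.2
  exact ⟨gfam a0 b0 rels kk, hgc, hΨrel, hΨker, fun γ hγ => hkerK1 hγ⟩

open scoped IsMulCommutative in
/-- a surjection from `ℤ/d₁ × ℤ/d₂` onto a commutative group generated by two elements of orders
dividing `d₁`, `d₂`. -/
theorem exists_surjective_of_two_gens_comm {K : Type*} [Group K] [IsMulCommutative K]
    (κ1 κ2 : K) (d1 d2 : ℕ) (hκ1 : κ1 ^ d1 = 1) (hκ2 : κ2 ^ d2 = 1)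
    (hgen : ∀ γ : K, ∃ t1 t2 : ℤ, γ = κ1 ^ t1 * κ2 ^ t2) :
    ∃ π : Multiplicative (ZMod d1 × ZMod d2) →* K,
      (∀ a b : ℤ, π (Multiplicative.ofAdd ((a : ZMod d1), (b : ZMod d2))) = κ1 ^ a * κ2 ^ b) ∧
      Function.Surjective π := by
  let f1 : ℤ →+ Additive K := zmultiplesHom (Additive K) (Additive.ofMul κ1)
  let f2 : ℤ →+ Additive K := zmultiplesHom (Additive K) (Additive.ofMul κ2)
  have hf1z : ∀ n : ℤ, f1 n = Additive.ofMul (κ1 ^ n) := by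
    intro n; simp [f1, zmultiplesHom_apply]
  have hf2z : ∀ n : ℤ, f2 n = Additive.ofMul (κ2 ^ n) := by
    intro n; simp [f2, zmultiplesHom_apply]
  have hf1 : f1 (d1 : ℤ) = 0 := by
    rw [hf1z, zpow_natCast, hκ1]; rfl
  have hf2 : f2 (d2 : ℤ) = 0 := by
    rw [hf2z, zpow_natCast, hκ2]; rfl
  let π1 : ZMod d1 →+ Additive K := ZMod.lift d1 ⟨f1, hf1⟩
  let π2 : ZMod d2 →+ Additive K := ZMod.lift d2 ⟨f2, hf2⟩
  let π0 : ZMod d1 × ZMod d2 →+ Additive K := AddMonoidHom.coprod π1 π2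
  have hπ0 : ∀ a b : ℤ, π0 ((a : ZMod d1), (b : ZMod d2)) =
      Additive.ofMul (κ1 ^ a * κ2 ^ b) := by
    intro a b
    have e1 : π1 (a : ZMod d1) = f1 a := ZMod.lift_coe d1 ⟨f1, hf1⟩ a
    have e2 : π2 (b : ZMod d2) = f2 b := ZMod.lift_coe d2 ⟨f2, hf2⟩ b
    show π1 (a : ZMod d1) + π2 (b : ZMod d2) = _
    rw [e1, e2, hf1z, hf2z]
    rfl
  let πm : Multiplicative (ZMod d1 × ZMod d2) →* K := AddMonoidHom.toMultiplicativeLeft π0
  have hπm : ∀ a b : ℤ, πm (Multiplicative.ofAdd ((a : ZMod d1), (b : ZMod d2))) =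
      κ1 ^ a * κ2 ^ b := by
    intro a b
    have h : πm (Multiplicative.ofAdd ((a : ZMod d1), (b : ZMod d2))) =
        (π0 ((a : ZMod d1), (b : ZMod d2))).toMul := rfl
    rw [h, hπ0]
    rfl
  refine ⟨πm, hπm, ?_⟩
  intro γ
  obtain ⟨t1, t2, ht⟩ := hgen γ
  exact ⟨Multiplicative.ofAdd ((t1 : ZMod d1), (t2 : ZMod d2)), by rw [hπm, ht]⟩

/-- a surjection from `ℤ/d₁ × ℤ/d₂` onto a subgroup `K` of the centre generated by two elements
of orders dividing `d₁`, `d₂`. -/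
theorem exists_surjective_of_two_gens {Γ : Type*} [Group Γ] (K : Subgroup Γ)
    (hK : K ≤ Subgroup.center Γ) (k1 k2 : Γ) (hk1 : k1 ∈ K) (hk2 : k2 ∈ K) (d1 d2 : ℕ)
    (h1 : k1 ^ d1 = 1) (h2 : k2 ^ d2 = 1)
    (hgen : ∀ γ ∈ K, ∃ t1 t2 : ℤ, γ = k1 ^ t1 * k2 ^ t2) :
    ∃ π : Multiplicative (ZMod d1 × ZMod d2) →* K, Function.Surjective π := by
  have hcomm : IsMulCommutative K := by
    refine ⟨⟨fun a b => Subtype.ext ?_⟩⟩
    exact (Subgroup.mem_center_iff.mp (hK b.2) (a : Γ))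
  obtain ⟨π, -, hπ⟩ := exists_surjective_of_two_gens_comm (K := K) ⟨k1, hk1⟩ ⟨k2, hk2⟩ d1 d2
    (Subtype.ext (by simpa using h1)) (Subtype.ext (by simpa using h2))
    (by
      rintro ⟨γ, hγ⟩
      obtain ⟨t1, t2, ht⟩ := hgen γ hγ
      exact ⟨t1, t2, Subtype.ext (by simpa using ht)⟩)
  exact ⟨π, hπ⟩

/-- the upper half with two generators: every finite stem extension has kernel a quotient of
`ℤ/d₁ × ℤ/d₂`. -/
theorem exists_surjective_of_stem2 {G : Type u} [Group G] [Finite G] (x y : G)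
    (hxy : Subgroup.closure {x, y} = (⊤ : Subgroup G))
    (rels : List (List ℕ)) (kk : ℕ) (hkk : rels.length + 1 ≤ kk)
    (hrel : ∀ w ∈ rels, prodw (gc2 x y) w = 1)
    (hT1 : ∀ (Δ : Type u) [Group Δ] (a b : Δ), Subgroup.closure {a, b} = (⊤ : Subgroup Δ) →
      (∀ w ∈ rels, prodw (gc2 a b) w = 1) → Finite Δ ∧ Nat.card Δ ≤ Nat.card G)
    (s : ℕ) (lam : Fin s → Fin kk → ℤ)
    (hT2 : ∀ (Δ : Type u) [Group Δ] (a b : Δ)
      (hcen : ∀ ρ g, Commute (prodw (gc2 a b) (rels.getD ρ [])) g) (j : Fin s),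
      Psi (gfam a b rels kk) (gfam_comm a b rels kk hcen) (lam j) = 1)
    (e1 e2 : Fin kk → ℤ)
    (he1 : ∀ c : Fin kk, e1 c = if (c : ℕ) = 0 then 0 else es0 (rels.getD ((c : ℕ) - 1) []))
    (he2 : ∀ c : Fin kk, e2 c = if (c : ℕ) = 0 then 0 else es1 (rels.getD ((c : ℕ) - 1) []))
    (c1 c2 g01 g02 : Fin kk → ℤ) (d1 d2 : ℕ)
    (hc1 : (∀ c : Fin kk, (c : ℕ) = 0 → c1 c = 0) ∧ Efun e1 c1 = 1 ∧ Efun e2 c1 = 0)
    (hc2 : (∀ c : Fin kk, (c : ℕ) = 0 → c2 c = 0) ∧ Efun e1 c2 = 0 ∧ Efun e2 c2 = 1)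
    (hg01 : ∀ c : Fin kk, (c : ℕ) = 0 → g01 c = 0)
    (hg02 : ∀ c : Fin kk, (c : ℕ) = 0 → g02 c = 0)
    (hL1 : ∀ v : Fin kk → ℤ, (∀ c : Fin kk, (c : ℕ) = 0 → v c = 0) → Efun e1 v = 0 → Efun e2 v = 0 →
      ∃ (cf : Fin s → ℤ) (t1 t2 : ℤ), v = ∑ j, cf j • lam j + t1 • g01 + t2 • g02)
    (hL2a : ∃ cf : Fin s → ℤ, (d1 : ℤ) • g01 = ∑ j, cf j • lam j)
    (hL2b : ∃ cf : Fin s → ℤ, (d2 : ℤ) • g02 = ∑ j, cf j • lam j) :
    ∀ (Γ : Type u) [Group Γ] [Finite Γ] (σ : Γ →* G), Cfsg.IsStemExtension σ →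
      ∃ π : Multiplicative (ZMod d1 × ZMod d2) →* σ.ker, Function.Surjective π := by
  intro Γ _ _ σ hσ
  obtain ⟨g, hg, hrelΨ, hkerΨ, hcov⟩ := stem_core x y hxy rels kk hkk hrel hT1 s lam hT2 e1 e2
    he1 he2 c1 c2 hc1 hc2 Γ σ hσ
  have hpow : ∀ (g0 : Fin kk → ℤ) (d : ℕ), (∃ cf : Fin s → ℤ, (d : ℤ) • g0 = ∑ j, cf j • lam j) →
      Psi g hg g0 ^ d = 1 := by
    intro g0 d ⟨cf, hcf⟩
    have h1 : Psi g hg ((d : ℤ) • g0) = Psi g hg g0 ^ d := by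
      rw [Psi_smul, zpow_natCast]
    rw [← h1, hcf]
    exact Psi_sum _ _ cf lam hrelΨ
  apply exists_surjective_of_two_gens σ.ker hσ.2.1 (Psi g hg g01) (Psi g hg g02)
    (hkerΨ g01 hg01) (hkerΨ g02 hg02) d1 d2 (hpow g01 d1 hL2a) (hpow g02 d2 hL2b)
  intro γ hγ
  obtain ⟨w, h1, h2, h3, rfl⟩ := hcov γ hγ
  obtain ⟨cf, t1, t2, hw⟩ := hL1 w h1 h2 h3
  refine ⟨t1, t2, ?_⟩
  rw [hw, Psi_add, Psi_add, Psi_smul, Psi_smul, Psi_sum _ _ cf lam hrelΨ, one_mul]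

end Cfsg.Agent.Helper23.Schur2
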