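import Mathlib
import Cfsg.Agent.Helper19.Schur.Table
import Cfsg.Agent.Helper23.Schur2.Upper

/-! Noncyclic version of helper19's existence half: two independent cyclic-labelled coset tables
over the same presentation give a stem extension with kernel `ℤ/d₁ × ℤ/d₂`. -/

set_option autoImplicit false
set_option linter.all false

namespace Cfsg.Agent.Helper23.Schur2

open Cfsg.Agent.Helper19.TCS Cfsg.Agent.Helper19.TCM Cfsg.Agent.Helper19.Schur
open scoped commutatorElement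

universe u

section pair

/-- an element commuting with two generators of the whole group is central. -/
theorem mem_center_of_commute_gens {Γ : Type*} [Group Γ] (A B Z : Γ)
    (hgen : Subgroup.closure {A, B} = (⊤ : Subgroup Γ)) (hZA : Commute Z A) (hZB : Commute Z B) :
    Z ∈ Subgroup.center Γ := by
  rw [Subgroup.mem_center_iff]
  intro g
  have hg : g ∈ Subgroup.closure ({A, B} : Set Γ) := by rw [hgen]; trivial
  have hle : Subgroup.closure ({A, B} : Set Γ) ≤ Subgroup.centralizer {Z} := by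
    rw [Subgroup.closure_le]
    rintro g (rfl | rfl)
    · rw [SetLike.mem_coe, Subgroup.mem_centralizer_iff]
      rintro h rfl
      exact hZA.eq
    · rw [SetLike.mem_coe, Subgroup.mem_centralizer_iff]
      rintro h rfl
      exact hZB.eq
  have := Subgroup.mem_centralizer_iff.mp (hle hg) Z rfl
  exact this.symm

open scoped IsMulCommutative in
/-- two independent central elements `Z₁, Z₂` of `ker σ` modulo which the relators hold generate
the whole kernel, which is then `ℤ/d₁ × ℤ/d₂`. -/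
theorem stem_of_central_pair {G : Type u} [Group G] [Finite G] (rels : List (List ℕ))
    (hT1 : ∀ (Δ : Type u) [Group Δ] (a b : Δ), Subgroup.closure {a, b} = (⊤ : Subgroup Δ) →
      (∀ w ∈ rels, prodw (gc2 a b) w = 1) → Finite Δ ∧ Nat.card Δ ≤ Nat.card G)
    {Γ : Type u} [Group Γ] (σ : Γ →* G) (hsurj : Function.Surjective σ) (A B Z1 Z2 : Γ)
    (hgen : Subgroup.closure {A, B} = (⊤ : Subgroup Γ)) (hZ1ker : σ Z1 = 1) (hZ2ker : σ Z2 = 1)
    (d1 d2 : ℕ) (hZ1 : Z1 ^ d1 = 1) (hZ2 : Z2 ^ d2 = 1)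
    (hind : ∀ a b : ℤ, Z1 ^ a * Z2 ^ b = 1 → (d1 : ℤ) ∣ a ∧ (d2 : ℤ) ∣ b)
    (hZ1A : Commute Z1 A) (hZ1B : Commute Z1 B) (hZ2A : Commute Z2 A) (hZ2B : Commute Z2 B)
    (hrel : ∀ w ∈ rels, ∃ a b : ℤ, prodw (gc2 A B) w = Z1 ^ a * Z2 ^ b)
    (hZ1c : Z1 ∈ commutator Γ) (hZ2c : Z2 ∈ commutator Γ) :
    Cfsg.IsStemExtension σ ∧ Nonempty (σ.ker ≃* Multiplicative (ZMod d1 × ZMod d2)) := by
  have hZ1cen : Z1 ∈ Subgroup.center Γ := mem_center_of_commute_gens A B Z1 hgen hZ1A hZ1B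
  have hZ2cen : Z2 ∈ Subgroup.center Γ := mem_center_of_commute_gens A B Z2 hgen hZ2A hZ2B
  have hc1 : ∀ (n : ℤ) g, Commute (Z1 ^ n) g := fun n g =>
    (show Commute Z1 g from ((Subgroup.mem_center_iff.mp hZ1cen) g).symm).zpow_left n
  have hc2 : ∀ (n : ℤ) g, Commute (Z2 ^ n) g := fun n g =>
    (show Commute Z2 g from ((Subgroup.mem_center_iff.mp hZ2cen) g).symm).zpow_left n
  let P : Subgroup Γ :=
    { carrier := {γ | ∃ a b : ℤ, γ = Z1 ^ a * Z2 ^ b}
      mul_mem' := by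
        rintro _ _ ⟨a, b, rfl⟩ ⟨a', b', rfl⟩
        refine ⟨a + a', b + b', ?_⟩
        rw [zpow_add, zpow_add]
        calc Z1 ^ a * Z2 ^ b * (Z1 ^ a' * Z2 ^ b')
            = Z1 ^ a * (Z2 ^ b * Z1 ^ a') * Z2 ^ b' := by group
          _ = Z1 ^ a * (Z1 ^ a' * Z2 ^ b) * Z2 ^ b' := by rw [(hc2 b (Z1 ^ a')).eq]
          _ = Z1 ^ a * Z1 ^ a' * (Z2 ^ b * Z2 ^ b') := by group
      one_mem' := ⟨0, 0, by simp⟩
      inv_mem' := by
        rintro _ ⟨a, b, rfl⟩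
        refine ⟨-a, -b, ?_⟩
        rw [mul_inv_rev, zpow_neg, zpow_neg, ← zpow_neg, ← zpow_neg, (hc2 (-b) (Z1 ^ (-a))).eq] }
  have hPmem : ∀ γ, γ ∈ P ↔ ∃ a b : ℤ, γ = Z1 ^ a * Z2 ^ b := fun γ => Iff.rfl
  have hPcen : P ≤ Subgroup.center Γ := by
    rintro _ ⟨a, b, rfl⟩
    exact Subgroup.mul_mem _ (Subgroup.zpow_mem _ hZ1cen a) (Subgroup.zpow_mem _ hZ2cen b)
  have hPker : P ≤ σ.ker := by
    rintro _ ⟨a, b, rfl⟩
    rw [MonoidHom.mem_ker, map_mul, map_zpow, map_zpow, hZ1ker, hZ2ker, one_zpow, one_zpow,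
      one_mul]
  haveI hPn : P.Normal := normal_of_le_center' P hPcen
  have hquot : Finite (Γ ⧸ P) ∧ Nat.card (Γ ⧸ P) ≤ Nat.card G := by
    apply hT1 (Γ ⧸ P) (QuotientGroup.mk' P A) (QuotientGroup.mk' P B)
    · have h1 : (Subgroup.closure ({A, B} : Set Γ)).map (QuotientGroup.mk' P) = ⊤ := by
        rw [hgen]
        exact Subgroup.map_top_of_surjective _ (QuotientGroup.mk'_surjective P)
      rw [MonoidHom.map_closure, Set.image_pair] at h1
      exact h1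
    · intro w hw
      rw [← map_prodw]
      exact (QuotientGroup.eq_one_iff _).mpr ((hPmem _).mpr (hrel w hw))
  have hkerP : σ.ker ≤ P := ker_le_of_card_quotient_le σ hsurj P hPker hquot.1 hquot.2
  have hkercen : σ.ker ≤ Subgroup.center Γ := hkerP.trans hPcen
  refine ⟨⟨hsurj, hkercen, ?_⟩, ?_⟩
  · intro γ hγ
    obtain ⟨a, b, rfl⟩ := hkerP hγ
    exact Subgroup.mul_mem _ (Subgroup.zpow_mem _ hZ1c a) (Subgroup.zpow_mem _ hZ2c b)
  · have hcomm : IsMulCommutative σ.ker := by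
      refine ⟨⟨fun a b => Subtype.ext ?_⟩⟩
      exact (Subgroup.mem_center_iff.mp (hkercen b.2) (a : Γ))
    have hk1 : Z1 ∈ σ.ker := MonoidHom.mem_ker.mpr hZ1ker
    have hk2 : Z2 ∈ σ.ker := MonoidHom.mem_ker.mpr hZ2ker
    obtain ⟨π, hπf, hπs⟩ := exists_surjective_of_two_gens_comm (K := σ.ker) ⟨Z1, hk1⟩ ⟨Z2, hk2⟩
      d1 d2 (Subtype.ext (by simpa using hZ1)) (Subtype.ext (by simpa using hZ2))
      (by
        rintro ⟨γ, hγ⟩
        obtain ⟨a, b, hab⟩ := hkerP hγ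
        exact ⟨a, b, Subtype.ext (by simpa using hab)⟩)
    have hπi : Function.Injective π := by
      rw [injective_iff_map_eq_one]
      intro z hz
      obtain ⟨a, ha⟩ := ZMod.intCast_surjective (Multiplicative.toAdd z).1
      obtain ⟨b, hb⟩ := ZMod.intCast_surjective (Multiplicative.toAdd z).2
      have hzz : z = Multiplicative.ofAdd ((a : ZMod d1), (b : ZMod d2)) := by
        rw [ha, hb]; rfl
      rw [hzz, hπf] at hz
      have hz' := congrArg Subtype.val hz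
      simp only [Subgroup.coe_mul, Subgroup.coe_zpow, Subgroup.coe_one] at hz'
      obtain ⟨h1, h2⟩ := hind a b hz'
      rw [hzz]
      have e1 : (a : ZMod d1) = 0 := (ZMod.intCast_zmod_eq_zero_iff_dvd a d1).mpr h1
      have e2 : (b : ZMod d2) = 0 := (ZMod.intCast_zmod_eq_zero_iff_dvd b d2).mpr h2
      rw [e1, e2]
      rfl
    exact ⟨(MulEquiv.ofBijective π ⟨hπi, hπs⟩).symm⟩

/-- a two-generator group whose relator values are products of powers of two central elements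
is perfect, provided the exponents are normalised. -/
theorem commutator_eq_top_of_relations2 {Γ : Type*} [Group Γ] (A B Z1 Z2 : Γ)
    (hgen : Subgroup.closure {A, B} = (⊤ : Subgroup Γ)) (d1 d2 : ℕ) (hZ1 : Z1 ^ d1 = 1)
    (hZ2 : Z2 ^ d2 = 1)
    (rels : List (List ℕ)) (phis1 phis2 : List ℕ)
    (hrel : ∀ ρ, prodw (gc2 A B) (rels.getD ρ []) =
      Z1 ^ (phis1.getD ρ 0) * Z2 ^ (phis2.getD ρ 0))
    (kk : ℕ) (e1 e2 c1 c2 : Fin kk → ℤ)
    (he1 : ∀ c : Fin kk, e1 c = if (c : ℕ) = 0 then 0 else es0 (rels.getD ((c : ℕ) - 1) []))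
    (he2 : ∀ c : Fin kk, e2 c = if (c : ℕ) = 0 then 0 else es1 (rels.getD ((c : ℕ) - 1) []))
    (hc1 : Efun e1 c1 = 1 ∧ Efun e2 c1 = 0) (hc2 : Efun e1 c2 = 0 ∧ Efun e2 c2 = 1)
    (hφ11 : (d1 : ℤ) ∣ ∑ c : Fin kk, c1 c * (if (c : ℕ) = 0 then 0 else (phis1.getD ((c : ℕ) - 1) 0 : ℤ)))
    (hφ12 : (d1 : ℤ) ∣ ∑ c : Fin kk, c2 c * (if (c : ℕ) = 0 then 0 else (phis1.getD ((c : ℕ) - 1) 0 : ℤ)))
    (hφ21 : (d2 : ℤ) ∣ ∑ c : Fin kk, c1 c * (if (c : ℕ) = 0 then 0 else (phis2.getD ((c : ℕ) - 1) 0 : ℤ)))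
    (hφ22 : (d2 : ℤ) ∣ ∑ c : Fin kk, c2 c * (if (c : ℕ) = 0 then 0 else (phis2.getD ((c : ℕ) - 1) 0 : ℤ))) :
    commutator Γ = ⊤ := by
  set π : Γ →* Abelianization Γ := Abelianization.of with hπ
  set a := π A with ha
  set b := π B with hb
  set z1 := π Z1 with hz1
  set z2 := π Z2 with hz2
  have hz1d : z1 ^ d1 = 1 := by rw [hz1, ← map_pow, hZ1, map_one]
  have hz2d : z2 ^ d2 = 1 := by rw [hz2, ← map_pow, hZ2, map_one]
  set φ1 : Fin kk → ℤ := fun c => if (c : ℕ) = 0 then 0 else (phis1.getD ((c : ℕ) - 1) 0 : ℤ)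
    with hφ1
  set φ2 : Fin kk → ℤ := fun c => if (c : ℕ) = 0 then 0 else (phis2.getD ((c : ℕ) - 1) 0 : ℤ)
    with hφ2
  have hF : ∀ c : Fin kk, a ^ e1 c * b ^ e2 c = z1 ^ φ1 c * z2 ^ φ2 c := by
    intro c
    by_cases hc : (c : ℕ) = 0
    · rw [he1, he2, hφ1, hφ2]
      simp only [if_pos hc, zpow_zero, mul_one]
    · rw [he1, he2, hφ1, hφ2]
      simp only [if_neg hc]
      rw [← prodw_comm, ha, hb, ← map_prodw, hrel, map_mul, map_pow, map_pow, zpow_natCast,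
        zpow_natCast]
  have hzv : ∀ v : Fin kk → ℤ, (d1 : ℤ) ∣ ∑ c, v c * φ1 c → (d2 : ℤ) ∣ ∑ c, v c * φ2 c →
      ∏ c, (z1 ^ φ1 c * z2 ^ φ2 c) ^ v c = 1 := by
    intro v hv1 hv2
    obtain ⟨m1, hm1⟩ := hv1
    obtain ⟨m2, hm2⟩ := hv2
    have : ∀ c, (z1 ^ φ1 c * z2 ^ φ2 c) ^ v c = z1 ^ (v c * φ1 c) * z2 ^ (v c * φ2 c) := fun c => by
      rw [mul_zpow, ← zpow_mul, ← zpow_mul, mul_comm (φ1 c), mul_comm (φ2 c)]
    simp only [this]
    rw [Finset.prod_mul_distrib, prod_zpow_eq_zpow_sum, prod_zpow_eq_zpow_sum, hm1, hm2, zpow_mul,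
      zpow_mul, zpow_natCast, zpow_natCast, hz1d, hz2d, one_zpow, one_zpow, one_mul]
  have hab : ∀ v : Fin kk → ℤ, ∏ c, (a ^ e1 c * b ^ e2 c) ^ v c = a ^ Efun e1 v * b ^ Efun e2 v := by
    intro v
    have : ∀ c, (a ^ e1 c * b ^ e2 c) ^ v c = a ^ (v c * e1 c) * b ^ (v c * e2 c) := fun c => by
      rw [mul_zpow, ← zpow_mul, ← zpow_mul, mul_comm (e1 c), mul_comm (e2 c)]
    simp only [this]
    rw [Finset.prod_mul_distrib, prod_zpow_eq_zpow_sum, prod_zpow_eq_zpow_sum]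
    rfl
  have ha1 : a = 1 := by
    have h1 := hab c1
    rw [hc1.1, hc1.2, zpow_one, zpow_zero, mul_one] at h1
    rw [← h1]
    simp only [hF]
    exact hzv c1 hφ11 hφ21
  have hb1 : b = 1 := by
    have h1 := hab c2
    rw [hc2.1, hc2.2, zpow_one, zpow_zero, one_mul] at h1
    rw [← h1]
    simp only [hF]
    exact hzv c2 hφ12 hφ22
  rw [eq_top_iff]
  intro g _
  have hg : g ∈ Subgroup.closure ({A, B} : Set Γ) := by rw [hgen]; trivial
  have hle : Subgroup.closure ({A, B} : Set Γ) ≤ π.ker := by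
    rw [Subgroup.closure_le]
    rintro g (rfl | rfl)
    · exact MonoidHom.mem_ker.mpr ha1
    · exact MonoidHom.mem_ker.mpr hb1
  have := hle hg
  rw [hπ, Abelianization.ker_of] at this
  exact this

end pair

section table

variable {N d : ℕ}

/-- integer powers of the unit translation. -/
theorem transl_intCast_zpow (k : ℤ) : transl N d (1 : ZMod d) ^ k = transl N d (k : ZMod d) := by
  induction k using Int.induction_on with
  | zero => simp [transl_zero]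
  | succ k ih =>
    rw [zpow_add_one, ih, Int.cast_add, Int.cast_one, transl_add]
  | pred k ih =>
    have h1 : transl N d ((-(k : ℤ) - 1 : ℤ) : ZMod d) * transl N d (1 : ZMod d) =
        transl N d ((-(k : ℤ) : ℤ) : ZMod d) := by
      rw [← transl_add]
      congr 1
      push_cast
      ring
    rw [zpow_sub_one, ih, ← h1, mul_inv_cancel_right]

theorem transl_eq_one_iff (hN : 0 < N) (β : ZMod d) : transl N d β = 1 ↔ β = 0 := by
  constructor
  · intro h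
    have h2 := congrArg (fun f : Equiv.Perm (Fin N × ZMod d) => (f (⟨0, hN⟩, 0)).2) h
    simpa [transl_apply] using h2
  · rintro rfl
    exact transl_zero

end table


section table2

variable {N1 md1 d1 : ℕ} {inv1 : ℕ → ℕ} {ent1 : ℕ → ℕ → ℕ}
variable {N2 md2 d2 : ℕ} {inv2 : ℕ → ℕ} {ent2 : ℕ → ℕ → ℕ}

/-- two checked cyclic-labelled coset tables over the same presentation give the existence half
for the multiplier `ℤ/d₁ × ℤ/d₂`. -/
theorem exists_stem_of_table2 {G : Type u} [Group G] [Finite G] (x y : G)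
    (hxy : Subgroup.closure {x, y} = (⊤ : Subgroup G)) (rels : List (List ℕ))
    (hT1 : ∀ (Δ : Type u) [Group Δ] (a b : Δ), Subgroup.closure {a, b} = (⊤ : Subgroup Δ) →
      (∀ w ∈ rels, prodw (gc2 a b) w = 1) → Finite Δ ∧ Nat.card Δ ≤ Nat.card G)
    (hrel : ∀ w ∈ rels, prodw (gc2 x y) w = 1)
    (H1 : ModelOK N1 md1 d1 inv1 ent1) (H2 : ModelOK N2 md2 d2 inv2 ent2)
    (hd1 : 0 < d1) (hd2 : 0 < d2) (phis1 phis2 : List ℕ)
    (hlen1 : phis1.length = rels.length) (hlen2 : phis2.length = rels.length)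
    (hw4 : ∀ w ∈ rels, ∀ l ∈ w, l < 4)
    (hrelM1 : ∀ i, i < N1 → okRelsM md1 d1 ent1 (rels.zip phis1) i = true)
    (hrelM2 : ∀ i, i < N2 → okRelsM md2 d2 ent2 (rels.zip phis2) i = true)
    (kk : ℕ) (e1 e2 c1 c2 : Fin kk → ℤ)
    (he1 : ∀ c : Fin kk, e1 c = if (c : ℕ) = 0 then 0 else es0 (rels.getD ((c : ℕ) - 1) []))
    (he2 : ∀ c : Fin kk, e2 c = if (c : ℕ) = 0 then 0 else es1 (rels.getD ((c : ℕ) - 1) []))
    (hc1 : Efun e1 c1 = 1 ∧ Efun e2 c1 = 0) (hc2 : Efun e1 c2 = 0 ∧ Efun e2 c2 = 1)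
    (hφ11 : (d1 : ℤ) ∣ ∑ c : Fin kk, c1 c * (if (c : ℕ) = 0 then 0 else (phis1.getD ((c : ℕ) - 1) 0 : ℤ)))
    (hφ12 : (d1 : ℤ) ∣ ∑ c : Fin kk, c2 c * (if (c : ℕ) = 0 then 0 else (phis1.getD ((c : ℕ) - 1) 0 : ℤ)))
    (hφ21 : (d2 : ℤ) ∣ ∑ c : Fin kk, c1 c * (if (c : ℕ) = 0 then 0 else (phis2.getD ((c : ℕ) - 1) 0 : ℤ)))
    (hφ22 : (d2 : ℤ) ∣ ∑ c : Fin kk, c2 c * (if (c : ℕ) = 0 then 0 else (phis2.getD ((c : ℕ) - 1) 0 : ℤ)))
    (zs1 zs2 : List ℕ)
    (hzs11 : (zs1.map (fun ρ => phis1.getD ρ 0)).sum % d1 = 1 % d1)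
    (hzs12 : (zs1.map (fun ρ => phis2.getD ρ 0)).sum % d2 = 0)
    (hzs21 : (zs2.map (fun ρ => phis1.getD ρ 0)).sum % d1 = 0)
    (hzs22 : (zs2.map (fun ρ => phis2.getD ρ 0)).sum % d2 = 1 % d2) :
    ∃ (Γ : Type u) (_ : Group Γ) (_ : Finite Γ) (σ : Γ →* G),
      Cfsg.IsStemExtension σ ∧ Nonempty (σ.ker ≃* Multiplicative (ZMod d1 × ZMod d2)) := by
  haveI : NeZero d1 := ⟨hd1.ne'⟩
  haveI : NeZero d2 := ⟨hd2.ne'⟩
  set At : G × Equiv.Perm (Fin N1 × ZMod d1) × Equiv.Perm (Fin N2 × ZMod d2) :=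
    (x, permA H1, permA H2) with hAt
  set Bt : G × Equiv.Perm (Fin N1 × ZMod d1) × Equiv.Perm (Fin N2 × ZMod d2) :=
    (y, permB H1, permB H2) with hBt
  have hprod : ∀ w, prodw (gc2 At Bt) w = (prodw (gc2 x y) w,
      prodw (gc2 (permA H1) (permB H1)) w, prodw (gc2 (permA H2) (permB H2)) w) := by
    intro w
    rw [hAt, hBt, prodw_prodGroup, prodw_prodGroup]
  -- relator values
  have hrelv : ∀ ρ, prodw (gc2 At Bt) (rels.getD ρ []) =
      ((1 : G), transl N1 d1 ((phis1.getD ρ 0 : ℕ) : ZMod d1),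
        transl N2 d2 ((phis2.getD ρ 0 : ℕ) : ZMod d2)) := by
    intro ρ
    rw [hprod]
    by_cases hρ : ρ < rels.length
    · have hρ1 : ρ < phis1.length := hlen1 ▸ hρ
      have hρ2 : ρ < phis2.length := hlen2 ▸ hρ
      rw [List.getD_eq_getElem _ _ hρ, List.getD_eq_getElem _ _ hρ1,
        List.getD_eq_getElem _ _ hρ2, hrel _ (List.getElem_mem _)]
      have t1 : prodw (gc2 (permA H1) (permB H1)) rels[ρ] = transl N1 d1 ((phis1[ρ] : ℕ) : ZMod d1) := by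
        apply prodw_eq_transl H1 (hw4 _ (List.getElem_mem _))
        intro i hi
        have hz : ρ < (rels.zip phis1).length := by
          rw [List.length_zip]; omega
        have hm : (rels.zip phis1)[ρ] ∈ rels.zip phis1 := List.getElem_mem hz
        rw [List.getElem_zip] at hm
        exact okRelsM_spec i _ (hrelM1 i hi) (rels[ρ], phis1[ρ]) hm
      have t2 : prodw (gc2 (permA H2) (permB H2)) rels[ρ] = transl N2 d2 ((phis2[ρ] : ℕ) : ZMod d2) := by
        apply prodw_eq_transl H2 (hw4 _ (List.getElem_mem _))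
        intro i hi
        have hz : ρ < (rels.zip phis2).length := by
          rw [List.length_zip]; omega
        have hm : (rels.zip phis2)[ρ] ∈ rels.zip phis2 := List.getElem_mem hz
        rw [List.getElem_zip] at hm
        exact okRelsM_spec i _ (hrelM2 i hi) (rels[ρ], phis2[ρ]) hm
      rw [t1, t2]
    · have hρ1 : phis1.length ≤ ρ := by omega
      have hρ2 : phis2.length ≤ ρ := by omega
      rw [List.getD_eq_default _ _ (not_lt.mp hρ), List.getD_eq_default _ _ hρ1,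
        List.getD_eq_default _ _ hρ2]
      simp only [prodw, Nat.cast_zero, transl_zero]
  -- the central elements
  have hZmem : ∀ zs : List ℕ,
      ((1 : G), transl N1 d1 (((zs.map (fun ρ => phis1.getD ρ 0)).sum : ℕ) : ZMod d1),
        transl N2 d2 (((zs.map (fun ρ => phis2.getD ρ 0)).sum : ℕ) : ZMod d2)) ∈
        Subgroup.closure ({At, Bt} :
          Set (G × Equiv.Perm (Fin N1 × ZMod d1) × Equiv.Perm (Fin N2 × ZMod d2))) := by
    intro zs
    induction zs with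
    | nil =>
      simp only [List.map_nil, List.sum_nil, Nat.cast_zero, transl_zero]
      exact one_mem _
    | cons ρ zs ih =>
      rw [List.map_cons, List.sum_cons, List.map_cons, List.sum_cons, Nat.cast_add, Nat.cast_add,
        transl_add, transl_add]
      have h1 := prodw_mem_closure At Bt (rels.getD ρ [])
      rw [hrelv ρ] at h1
      have := mul_mem h1 ih
      rw [Prod.mk_mul_mk, Prod.mk_mul_mk, mul_one] at this
      exact this
  have hZ1t : ((1 : G), transl N1 d1 (1 : ZMod d1), (1 : Equiv.Perm (Fin N2 × ZMod d2))) ∈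
      Subgroup.closure ({At, Bt} :
        Set (G × Equiv.Perm (Fin N1 × ZMod d1) × Equiv.Perm (Fin N2 × ZMod d2))) := by
    have h1 := hZmem zs1
    have h2 : (((zs1.map (fun ρ => phis1.getD ρ 0)).sum : ℕ) : ZMod d1) = ((1 : ℕ) : ZMod d1) :=
      (ZMod.natCast_eq_natCast_iff' _ _ _).mpr hzs11
    have h3 : (((zs1.map (fun ρ => phis2.getD ρ 0)).sum : ℕ) : ZMod d2) = 0 :=
      (ZMod.natCast_eq_zero_iff _ _).mpr (Nat.dvd_of_mod_eq_zero hzs12)
    rw [h2, h3, Nat.cast_one, transl_zero] at h1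
    exact h1
  have hZ2t : ((1 : G), (1 : Equiv.Perm (Fin N1 × ZMod d1)), transl N2 d2 (1 : ZMod d2)) ∈
      Subgroup.closure ({At, Bt} :
        Set (G × Equiv.Perm (Fin N1 × ZMod d1) × Equiv.Perm (Fin N2 × ZMod d2))) := by
    have h1 := hZmem zs2
    have h2 : (((zs2.map (fun ρ => phis2.getD ρ 0)).sum : ℕ) : ZMod d2) = ((1 : ℕ) : ZMod d2) :=
      (ZMod.natCast_eq_natCast_iff' _ _ _).mpr hzs22
    have h3 : (((zs2.map (fun ρ => phis1.getD ρ 0)).sum : ℕ) : ZMod d1) = 0 :=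
      (ZMod.natCast_eq_zero_iff _ _).mpr (Nat.dvd_of_mod_eq_zero hzs21)
    rw [h2, h3, Nat.cast_one, transl_zero] at h1
    exact h1
  -- pass to the subgroup
  have hgen := closure_pair_subtype At Bt
  obtain ⟨A, hA⟩ : ∃ A : ↥(Subgroup.closure ({At, Bt} :
      Set (G × Equiv.Perm (Fin N1 × ZMod d1) × Equiv.Perm (Fin N2 × ZMod d2)))),
      A = ⟨At, Subgroup.subset_closure (by simp)⟩ := ⟨_, rfl⟩
  obtain ⟨B, hB⟩ : ∃ B : ↥(Subgroup.closure ({At, Bt} :
      Set (G × Equiv.Perm (Fin N1 × ZMod d1) × Equiv.Perm (Fin N2 × ZMod d2)))),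
      B = ⟨Bt, Subgroup.subset_closure (by simp)⟩ := ⟨_, rfl⟩
  rw [← hA, ← hB] at hgen
  have hAv : (A : G × Equiv.Perm (Fin N1 × ZMod d1) × Equiv.Perm (Fin N2 × ZMod d2)) = At := by
    rw [hA]
  have hBv : (B : G × Equiv.Perm (Fin N1 × ZMod d1) × Equiv.Perm (Fin N2 × ZMod d2)) = Bt := by
    rw [hB]
  obtain ⟨Z1, hZ1⟩ : ∃ Z : ↥(Subgroup.closure ({At, Bt} :
      Set (G × Equiv.Perm (Fin N1 × ZMod d1) × Equiv.Perm (Fin N2 × ZMod d2)))),
      Z = ⟨_, hZ1t⟩ := ⟨_, rfl⟩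
  obtain ⟨Z2, hZ2⟩ : ∃ Z : ↥(Subgroup.closure ({At, Bt} :
      Set (G × Equiv.Perm (Fin N1 × ZMod d1) × Equiv.Perm (Fin N2 × ZMod d2)))),
      Z = ⟨_, hZ2t⟩ := ⟨_, rfl⟩
  have hZ1v : (Z1 : G × Equiv.Perm (Fin N1 × ZMod d1) × Equiv.Perm (Fin N2 × ZMod d2)) =
      ((1 : G), transl N1 d1 (1 : ZMod d1), (1 : Equiv.Perm (Fin N2 × ZMod d2))) := by rw [hZ1]
  have hZ2v : (Z2 : G × Equiv.Perm (Fin N1 × ZMod d1) × Equiv.Perm (Fin N2 × ZMod d2)) =
      ((1 : G), (1 : Equiv.Perm (Fin N1 × ZMod d1)), transl N2 d2 (1 : ZMod d2)) := by rw [hZ2]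
  have hval : ∀ w, ((prodw (gc2 A B) w :
      ↥(Subgroup.closure ({At, Bt} :
        Set (G × Equiv.Perm (Fin N1 × ZMod d1) × Equiv.Perm (Fin N2 × ZMod d2))))) :
      G × Equiv.Perm (Fin N1 × ZMod d1) × Equiv.Perm (Fin N2 × ZMod d2)) = prodw (gc2 At Bt) w := by
    intro w
    have := map_prodw (Subgroup.closure ({At, Bt} :
      Set (G × Equiv.Perm (Fin N1 × ZMod d1) × Equiv.Perm (Fin N2 × ZMod d2)))).subtype A B w
    simpa [hAv, hBv] using this
  set τ : ↥(Subgroup.closure ({At, Bt} :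
      Set (G × Equiv.Perm (Fin N1 × ZMod d1) × Equiv.Perm (Fin N2 × ZMod d2)))) →* G :=
    (MonoidHom.fst G _).comp (Subgroup.subtype _) with hτ
  have hτA : τ A = x := by rw [hτ, MonoidHom.comp_apply, Subgroup.coe_subtype, hAv]; rfl
  have hτB : τ B = y := by rw [hτ, MonoidHom.comp_apply, Subgroup.coe_subtype, hBv]; rfl
  have hsurj : Function.Surjective τ := by
    rw [← MonoidHom.range_eq_top, eq_top_iff, ← hxy, Subgroup.closure_le]
    rintro g (rfl | rfl)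
    · exact ⟨_, hτA⟩
    · exact ⟨_, hτB⟩
  have hZZ : ∀ a b : ℤ, ((Z1 ^ a * Z2 ^ b : ↥(Subgroup.closure ({At, Bt} :
      Set (G × Equiv.Perm (Fin N1 × ZMod d1) × Equiv.Perm (Fin N2 × ZMod d2))))) :
      G × Equiv.Perm (Fin N1 × ZMod d1) × Equiv.Perm (Fin N2 × ZMod d2)) =
      ((1 : G), transl N1 d1 (a : ZMod d1), transl N2 d2 (b : ZMod d2)) := by
    intro a b
    rw [Subgroup.coe_mul, Subgroup.coe_zpow, Subgroup.coe_zpow, hZ1v, hZ2v]
    simp only [Prod.pow_mk, one_zpow, Prod.mk_mul_mk, one_mul, mul_one, transl_intCast_zpow]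
  have hrelZ : ∀ ρ, prodw (gc2 A B) (rels.getD ρ []) =
      Z1 ^ (phis1.getD ρ 0) * Z2 ^ (phis2.getD ρ 0) := by
    intro ρ
    apply Subtype.ext
    have h := hZZ ((phis1.getD ρ 0 : ℕ) : ℤ) ((phis2.getD ρ 0 : ℕ) : ℤ)
    rw [zpow_natCast, zpow_natCast] at h
    rw [hval, hrelv, h]
    simp
  have hZ1d : Z1 ^ d1 = 1 := by
    apply Subtype.ext
    have h := hZZ (d1 : ℤ) 0
    rw [zpow_natCast, zpow_zero, mul_one] at h
    rw [h]
    simp [transl_zero]
  have hZ2d : Z2 ^ d2 = 1 := by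
    apply Subtype.ext
    have h := hZZ 0 (d2 : ℤ)
    rw [zpow_natCast, zpow_zero, one_mul] at h
    rw [h]
    simp [transl_zero]
  have hind : ∀ a b : ℤ, Z1 ^ a * Z2 ^ b = 1 → (d1 : ℤ) ∣ a ∧ (d2 : ℤ) ∣ b := by
    intro a b hab
    have h := hZZ a b
    rw [hab] at h
    have h' : ((1 : G), transl N1 d1 (a : ZMod d1), transl N2 d2 (b : ZMod d2)) =
        ((1 : G), (1 : Equiv.Perm (Fin N1 × ZMod d1)), (1 : Equiv.Perm (Fin N2 × ZMod d2))) :=
      h.symm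
    have h1 : transl N1 d1 (a : ZMod d1) = 1 := (Prod.mk.inj (Prod.mk.inj h').2).1
    have h2 : transl N2 d2 (b : ZMod d2) = 1 := (Prod.mk.inj (Prod.mk.inj h').2).2
    exact ⟨(ZMod.intCast_zmod_eq_zero_iff_dvd a d1).mp ((transl_eq_one_iff H1.hN _).mp h1),
      (ZMod.intCast_zmod_eq_zero_iff_dvd b d2).mp ((transl_eq_one_iff H2.hN _).mp h2)⟩
  have hcomm1 : ∀ l, l < 4 → Commute
      (Z1 : G × Equiv.Perm (Fin N1 × ZMod d1) × Equiv.Perm (Fin N2 × ZMod d2)) (gc2 At Bt l) := by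
    intro l hl
    rw [hZ1v]
    have h2 := (transl_comm_gen H1 (1 : ZMod d1) hl).eq
    have h3 : gc2 At Bt l = (gc2 x y l, gc2 (permA H1) (permB H1) l,
        gc2 (permA H2) (permB H2) l) := by
      rw [hAt, hBt]
      interval_cases l <;> rfl
    rw [h3]
    show ((1 : G), transl N1 d1 (1 : ZMod d1), (1 : Equiv.Perm (Fin N2 × ZMod d2))) * _ =
      _ * ((1 : G), transl N1 d1 (1 : ZMod d1), (1 : Equiv.Perm (Fin N2 × ZMod d2)))
    rw [Prod.mk_mul_mk, Prod.mk_mul_mk, Prod.mk_mul_mk, Prod.mk_mul_mk, one_mul, mul_one, one_mul,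
      mul_one, h2]
  have hcomm2 : ∀ l, l < 4 → Commute
      (Z2 : G × Equiv.Perm (Fin N1 × ZMod d1) × Equiv.Perm (Fin N2 × ZMod d2)) (gc2 At Bt l) := by
    intro l hl
    rw [hZ2v]
    have h2 := (transl_comm_gen H2 (1 : ZMod d2) hl).eq
    have h3 : gc2 At Bt l = (gc2 x y l, gc2 (permA H1) (permB H1) l,
        gc2 (permA H2) (permB H2) l) := by
      rw [hAt, hBt]
      interval_cases l <;> rfl
    rw [h3]
    show ((1 : G), (1 : Equiv.Perm (Fin N1 × ZMod d1)), transl N2 d2 (1 : ZMod d2)) * _ =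
      _ * ((1 : G), (1 : Equiv.Perm (Fin N1 × ZMod d1)), transl N2 d2 (1 : ZMod d2))
    rw [Prod.mk_mul_mk, Prod.mk_mul_mk, Prod.mk_mul_mk, Prod.mk_mul_mk, one_mul, mul_one, one_mul,
      mul_one, h2]
  have hperf : commutator ↥(Subgroup.closure ({At, Bt} :
      Set (G × Equiv.Perm (Fin N1 × ZMod d1) × Equiv.Perm (Fin N2 × ZMod d2)))) = ⊤ :=
    commutator_eq_top_of_relations2 A B Z1 Z2 hgen d1 d2 hZ1d hZ2d rels phis1 phis2 hrelZ kk e1 e2
      c1 c2 he1 he2 hc1 hc2 hφ11 hφ12 hφ21 hφ22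
  have h := stem_of_central_pair rels hT1 τ hsurj A B Z1 Z2 hgen
    (by rw [hτ, MonoidHom.comp_apply, Subgroup.coe_subtype, hZ1v]; rfl)
    (by rw [hτ, MonoidHom.comp_apply, Subgroup.coe_subtype, hZ2v]; rfl)
    d1 d2 hZ1d hZ2d hind
    (by
      have := (hcomm1 0 (by norm_num)).eq
      exact Subtype.ext (by rw [Subgroup.coe_mul, Subgroup.coe_mul, hAv]; exact this))
    (by
      have := (hcomm1 2 (by norm_num)).eq
      exact Subtype.ext (by rw [Subgroup.coe_mul, Subgroup.coe_mul, hBv]; exact this))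
    (by
      have := (hcomm2 0 (by norm_num)).eq
      exact Subtype.ext (by rw [Subgroup.coe_mul, Subgroup.coe_mul, hAv]; exact this))
    (by
      have := (hcomm2 2 (by norm_num)).eq
      exact Subtype.ext (by rw [Subgroup.coe_mul, Subgroup.coe_mul, hBv]; exact this))
    (by
      intro w hw
      obtain ⟨ρ, hρ, rfl⟩ := List.getElem_of_mem hw
      have := hrelZ ρ
      rw [List.getD_eq_getElem _ _ hρ] at this
      refine ⟨((phis1.getD ρ 0 : ℕ) : ℤ), ((phis2.getD ρ 0 : ℕ) : ℤ), ?_⟩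
      rw [zpow_natCast, zpow_natCast]
      exact this)
    (by rw [hperf]; trivial)
    (by rw [hperf]; trivial)
  exact ⟨_, inferInstance, inferInstance, τ, h⟩

end table2

end Cfsg.Agent.Helper23.Schur2
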