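import Mathlib
import Cfsg.Prelude.Def_KGroupFacts
import Cfsg.Agent.Helper23.Schur2.Exist

/-! Packaging for noncyclic Schur multipliers: change of the coefficient group along an
isomorphism, and the isomorphisms `ℤ/12 × ℤ/4 ≅ ℤ/3 × ℤ/4 × ℤ/4`, `ℤ/12 × ℤ/3 ≅ ℤ/4 × ℤ/3 × ℤ/3`. -/

set_option autoImplicit false

namespace Cfsg.Agent.Helper23.Schur2

universe u

/-- the Schur multiplier predicate only depends on the isomorphism type of the coefficients. -/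
theorem hasSchurMultiplier_congr_right {G : Type u} [Group G] {A A' : Type*} [CommGroup A]
    [CommGroup A'] (e : A ≃* A') (h : Cfsg.HasSchurMultiplier G A) :
    Cfsg.HasSchurMultiplier G A' := by
  obtain ⟨⟨Γ, iG, iF, σ, hσ, ⟨φ⟩⟩, h2⟩ := h
  refine ⟨⟨Γ, iG, iF, σ, hσ, ⟨φ.trans e⟩⟩, ?_⟩
  intro Γ' _ _ σ' hσ'
  obtain ⟨π, hπ⟩ := h2 Γ' σ' hσ'
  exact ⟨π.comp e.symm.toMonoidHom, hπ.comp e.symm.surjective⟩

/-- both halves together. -/
theorem hasSchurMultiplier_of_halves {G : Type u} [Group G] {A : Type*} [CommGroup A]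
    (h1 : ∃ (Γ : Type u) (_ : Group Γ) (_ : Finite Γ) (σ : Γ →* G),
      Cfsg.IsStemExtension σ ∧ Nonempty (σ.ker ≃* A))
    (h2 : ∀ (Γ : Type u) [Group Γ] [Finite Γ] (σ : Γ →* G), Cfsg.IsStemExtension σ →
      ∃ π : A →* σ.ker, Function.Surjective π) : Cfsg.HasSchurMultiplier G A :=
  ⟨h1, h2⟩

/-- `ℤ/12 × ℤ/4 ≅ ℤ/3 × ℤ/4 × ℤ/4`. -/
noncomputable def mulEquiv_12_4 :
    Multiplicative (ZMod 12 × ZMod 4) ≃* Multiplicative (ZMod 3 × ZMod 4 × ZMod 4) :=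
  AddEquiv.toMultiplicative
    ((AddEquiv.prodCongr
      ((ZMod.chineseRemainder (by decide : Nat.Coprime 3 4)).toAddEquiv :
        ZMod 12 ≃+ ZMod 3 × ZMod 4) (AddEquiv.refl (ZMod 4))).trans AddEquiv.prodAssoc)

/-- `ℤ/12 × ℤ/3 ≅ ℤ/4 × ℤ/3 × ℤ/3`. -/
noncomputable def mulEquiv_12_3 :
    Multiplicative (ZMod 12 × ZMod 3) ≃* Multiplicative (ZMod 4 × ZMod 3 × ZMod 3) :=
  AddEquiv.toMultiplicative
    ((AddEquiv.prodCongr
      ((ZMod.chineseRemainder (by decide : Nat.Coprime 4 3)).toAddEquiv :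
        ZMod 12 ≃+ ZMod 4 × ZMod 3) (AddEquiv.refl (ZMod 3))).trans AddEquiv.prodAssoc)

/-- `PSL₃(4)`-shaped coefficients from the two-generator form. -/
theorem hasSchurMultiplier_3_4_4 {G : Type u} [Group G]
    (h : Cfsg.HasSchurMultiplier G (Multiplicative (ZMod 12 × ZMod 4))) :
    Cfsg.HasSchurMultiplier G (Multiplicative (ZMod 3 × ZMod 4 × ZMod 4)) :=
  hasSchurMultiplier_congr_right mulEquiv_12_4 h

/-- `PSU₄(3)`-shaped coefficients from the two-generator form. -/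
theorem hasSchurMultiplier_4_3_3 {G : Type u} [Group G]
    (h : Cfsg.HasSchurMultiplier G (Multiplicative (ZMod 12 × ZMod 3))) :
    Cfsg.HasSchurMultiplier G (Multiplicative (ZMod 4 × ZMod 3 × ZMod 3)) :=
  hasSchurMultiplier_congr_right mulEquiv_12_3 h

end Cfsg.Agent.Helper23.Schur2
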